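import Groth.Agent.H80.ProjDescent
import Mathlib.RingTheory.Smooth.Basic
import Mathlib.RingTheory.Smooth.Kaehler
import Mathlib.RingTheory.Extension.Cotangent.BaseChange
import Mathlib.RingTheory.Kaehler.TensorProduct
import Mathlib.RingTheory.Flat.FaithfullyFlat.Basic

/-!
# Formal smoothness descends along faithfully flat base change (helper70)
-/

set_option autoImplicit false
universe u
open scoped TensorProduct

namespace Groth.Agent.H70.FSmDesc

theorem formallySmooth_of_baseChange (R : Type u) [CommRing R]
    (S : Type u) [CommRing S] [Algebra R S] (R' : Type u) [CommRing R'] [Algebra R R']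
    [Module.FaithfullyFlat R R'] (h : Algebra.FormallySmooth R' (R' ⊗[R] S)) :
    Algebra.FormallySmooth R S := by
  letI : Algebra S (R' ⊗[R] S) := Algebra.TensorProduct.rightAlgebra
  haveI : Module.FaithfullyFlat S (R' ⊗[R] S) := by
    have e : (S ⊗[R] R') ≃ₗ[S] (R' ⊗[R] S) :=
      { (Algebra.TensorProduct.comm R S R').toLinearEquiv with
        map_smul' := by
          intro s x
          change Algebra.TensorProduct.comm R S R' (s • x) =
            s • Algebra.TensorProduct.comm R S R' x
          rw [Algebra.smul_def, Algebra.smul_def, map_mul]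
          congr 1 }
    exact Module.FaithfullyFlat.of_linearEquiv S (S ⊗[R] R') e.symm
  refine ⟨?_, ?_⟩
  · have e := KaehlerDifferential.tensorKaehlerEquiv R R' S (R' ⊗[R] S)
    haveI : Module.Projective (R' ⊗[R] S) ((R' ⊗[R] S) ⊗[S] Ω[S⁄R]) :=
      Module.Projective.of_equiv e.symm
    exact Groth.Agent.H80.ProjDescent.main S (R' ⊗[R] S) Ω[S⁄R]
  · have e := Algebra.tensorH1CotangentOfFlat R S R'
    haveI : Subsingleton (R' ⊗[R] Algebra.H1Cotangent R S) := e.toEquiv.subsingleton
    exact Module.FaithfullyFlat.lTensor_reflects_triviality R R' _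

end Groth.Agent.H70.FSmDesc
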